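import Groth.Agent.CplBC.Basic
import Groth.Agent.RegLocus.Smooth
import Groth.Agent.DivPart.Basic
import Mathlib

/-!
Regularity of a proper scheme and of its base change to the completion.
-/

set_option autoImplicit false
set_option backward.isDefEq.respectTransparency false

universe u

open CategoryTheory CategoryTheory.Limits AlgebraicGeometry TopologicalSpace IsLocalRing

noncomputable section

namespace Groth.Agent.CplBC

/-- Regularity passes to generizations. -/
theorem regular_of_specializes {X : Scheme.{u}} {x x' : X} (h : x ⤳ x')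
    (hx' : IsRegularLocalRing (X.presheaf.stalk x')) : IsRegularLocalRing (X.presheaf.stalk x) := by
  obtain ⟨W, hW, hxW', -⟩ := exists_isAffineOpen_mem_and_subset (X := X) (x := x') (U := ⊤) trivial
  let W' : X.affineOpens := ⟨W, hW⟩
  have hxW : x ∈ W := h.mem_open W.2 hxW'
  letI := TopCat.Presheaf.algebra_section_stalk X.presheaf (⟨x', hxW'⟩ : W)
  haveI := hW.isLocalization_stalk ⟨x', hxW'⟩
  haveI := hx'
  haveI := SerreReg.isRegularRing_of_isRegularLocalRing (X.presheaf.stalk x')
  have hle : DivPart.pr W' (x := x) hxW ≤ DivPart.pr W' (x := x') hxW' :=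
    DivPart.pr_le_of_specializes W' (x := x') (y := x) hxW' hxW h
  haveI := RegLocus.isRegularLocalRing_of_isLocalization (T := X.presheaf.stalk x')
    (DivPart.pr W' (x := x') hxW').primeCompl (DivPart.pr W' (x := x) hxW)
    (Set.disjoint_left.mpr fun a ha ha' => ha (hle ha'))
  letI := TopCat.Presheaf.algebra_section_stalk X.presheaf (⟨x, hxW⟩ : W)
  haveI := hW.isLocalization_stalk ⟨x, hxW⟩
  exact IsRegularLocalRing.of_ringEquiv (IsLocalization.algEquiv (DivPart.pr W' (x := x) hxW).primeCompl
    (Localization.AtPrime (DivPart.pr W' (x := x) hxW)) (X.presheaf.stalk x)).toRingEquiv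

/-- Over a local base, every point of a proper scheme specializes to one over the closed point. -/
theorem exists_specializes_closed {R : Type u} [CommRing R] [IsLocalRing R] {P : Scheme.{u}}
    (p : P ⟶ Spec (CommRingCat.of R)) [IsProper p] (y : P) : ∃ y', y ⤳ y' ∧ p.base y' = closedPoint R := by
  have hcl := p.isClosedMap _ (isClosed_closure (s := ({y} : Set P)))
  have hmem : closedPoint R ∈ p.base '' closure {y} :=
    (IsLocalRing.specializes_closedPoint (p.base y)).mem_closed hcl ⟨y, subset_closure rfl, rfl⟩
  obtain ⟨y', hy', he⟩ := hmem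
  exact ⟨y', specializes_iff_mem_closure.mpr hy', he⟩

variable {A : Type u} [CommRing A] [IsLocalRing A] [IsNoetherianRing A] {X : Scheme.{u}}
  (f : X ⟶ Spec (CommRingCat.of A))

theorem forall_regular_iff [IsProper f] :
    (∀ x : X, IsRegularLocalRing (X.presheaf.stalk x)) ↔
      ∀ y : Curv2.bcCpl A f, IsRegularLocalRing ((Curv2.bcCpl A f).presheaf.stalk y) := by
  constructor
  · intro h y
    obtain ⟨y', hy, hy'⟩ := exists_specializes_closed (R := Curv2.cpl A) (Curv2.bcCplSnd A f) y
    exact regular_of_specializes hy ((isRegularLocalRing_iff f y' hy').mpr (h _))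
  · intro h x
    obtain ⟨x', hx, hx'⟩ := exists_specializes_closed f x
    haveI : IsLocalHom (CommRingCat.ofHom (algebraMap A (Curv2.cpl A))).hom :=
      inferInstanceAs (IsLocalHom (algebraMap A (Curv2.cpl A)))
    obtain ⟨y, hy, hy'⟩ := Scheme.Pullback.exists_preimage_pullback (f := f)
      (g := Spec.map (CommRingCat.ofHom (algebraMap A (Curv2.cpl A)))) x' (closedPoint (Curv2.cpl A))
      (hx'.trans (IsLocalRing.comap_closedPoint (CommRingCat.ofHom (algebraMap A (Curv2.cpl A))).hom).symm)
    refine regular_of_specializes hx ?_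
    rw [← hy]
    exact (isRegularLocalRing_iff f y hy').mp (h y)

end Groth.Agent.CplBC
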