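import Groth.Agent.SmLocalST.EtReg
import Groth.Agent.GeomProp.SchemeDesc
import Groth.Agent.FpqcDescent.IdealGlue
import Groth.Agent.AdicBasics.Dimension
import Groth.Prelude.Def_Curv2
import Mathlib

/-!
Regularity and base change to the completion of the base.
-/

set_option autoImplicit false
set_option backward.isDefEq.respectTransparency false
set_option maxHeartbeats 800000

universe u

open CategoryTheory CategoryTheory.Limits AlgebraicGeometry TopologicalSpace IsLocalRing

noncomputable section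

namespace Groth.Agent.CplBC

variable {A : Type u} [CommRing A] [IsLocalRing A] [IsNoetherianRing A] {X : Scheme.{u}}
  (f : X ⟶ Spec (CommRingCat.of A))

instance flat_fst : Flat (Curv2.bcCplFst A f) := by
  haveI : Flat (Spec.map (CommRingCat.ofHom (algebraMap A (Curv2.cpl A)))) := by
    rw [HasRingHomProperty.Spec_iff (P := @Flat)]
    exact RingHom.flat_algebraMap_iff.mpr inferInstance
  exact MorphismProperty.pullback_fst (P := @Flat) _ _ inferInstance

instance affine_fst : IsAffineHom (Curv2.bcCplFst A f) :=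
  MorphismProperty.pullback_fst (P := @IsAffineHom) _ _ inferInstance

/-- Functions on the base change over an affine open come from the open, up to the maximal ideal of the base. -/
theorem exists_sub_mem (U : X.Opens) (hU : IsAffineOpen U)
    (c : Γ(Curv2.bcCpl A f, (Curv2.bcCplFst A f) ⁻¹ᵁ U)) :
    ∃ b : Γ(X, U), c - (Curv2.bcCplFst A f).app U b ∈
      ((maximalIdeal A).map ((X.presheaf.map (homOfLE (le_top : U ≤ ⊤)).op).hom.comp (Coh.toGlobal f))).map
        ((Curv2.bcCplFst A f).app U).hom := by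
  let q : Curv2.cpl A →+* A ⧸ maximalIdeal A := (AdicCompletion.evalOneₐ (maximalIdeal A)).toRingHom
  have hq : Function.Surjective q := AdicCompletion.evalOneₐ_surjective _
  have hker : RingHom.ker q = (maximalIdeal A).map (algebraMap A (Curv2.cpl A)) :=
    AdicCompletion.ker_evalOneₐ_eq_map (maximalIdeal A) (IsNoetherian.noetherian _)
  let iq : Spec (CommRingCat.of (A ⧸ maximalIdeal A)) ⟶ Spec (CommRingCat.of (Curv2.cpl A)) :=
    Spec.map (CommRingCat.ofHom q)
  haveI : IsClosedImmersion iq := IsClosedImmersion.spec_of_surjective _ hq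
  let i := pullback.fst (Curv2.bcCplSnd A f) iq
  have hcl : IsClosedImmersion (iq ≫ Spec.map (CommRingCat.ofHom (algebraMap A (Curv2.cpl A)))) := by
    rw [← Spec.map_comp, ← CommRingCat.ofHom_comp, AdicCompletion.evalOneₐ_comp_algebraMap_eq_mk]
    exact IsClosedImmersion.spec_of_surjective _ Ideal.Quotient.mk_surjective
  haveI : IsClosedImmersion (i ≫ Curv2.bcCplFst A f) :=
    MorphismProperty.of_isPullback (P := @IsClosedImmersion)
      (((IsPullback.of_hasPullback (Curv2.bcCplSnd A f) iq).flip).paste_vert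
        (IsPullback.of_hasPullback f (Spec.map (CommRingCat.ofHom (algebraMap A (Curv2.cpl A))))).flip) hcl
  have hV : IsAffineOpen ((Curv2.bcCplFst A f) ⁻¹ᵁ U) := hU.preimage _
  obtain ⟨b, hb⟩ := (i ≫ Curv2.bcCplFst A f).app_surjective U hU (i.app _ c)
  refine ⟨b, ?_⟩
  have h1 : c - (Curv2.bcCplFst A f).app U b ∈ i.ker.ideal ⟨_, hV⟩ := by
    rw [Scheme.Hom.ker_apply, RingHom.mem_ker, map_sub, sub_eq_zero, ← hb]
    rfl
  rw [Scheme.IdealSheafData.ker_fst_of_isClosedImmersion,
    FpqcDescent.ideal_comap_appLE _ (Curv2.bcCplSnd A f) ⟨⊤, isAffineOpen_top _⟩ ⟨_, hV⟩ le_top] at h1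
  refine (Ideal.map_le_iff_le_comap.mpr ?_) h1
  intro a ha
  rw [Scheme.Hom.ker_apply, RingHom.mem_ker] at ha
  obtain ⟨d, rfl⟩ := (Scheme.ΓSpecIso (CommRingCat.of (Curv2.cpl A))).commRingCatIsoToRingEquiv.symm.surjective a
  have h2 : d ∈ RingHom.ker q := by
    have h := congrArg (Scheme.ΓSpecIso (CommRingCat.of (A ⧸ maximalIdeal A))).hom ha
    have hn := ConcreteCategory.congr_hom (Scheme.ΓSpecIso_naturality (CommRingCat.ofHom q))
      ((Scheme.ΓSpecIso (CommRingCat.of (Curv2.cpl A))).inv d)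
    simp only [map_zero] at h
    rw [CommRingCat.comp_apply, CommRingCat.comp_apply, Iso.inv_hom_id_apply] at hn
    exact hn.symm.trans h
  rw [hker] at h2
  have hcomp : (((Curv2.bcCplSnd A f).appLE ⊤ ((Curv2.bcCplFst A f) ⁻¹ᵁ U) le_top).hom.comp
      (Scheme.ΓSpecIso (CommRingCat.of (Curv2.cpl A))).inv.hom).comp (algebraMap A (Curv2.cpl A)) =
      ((Curv2.bcCplFst A f).app U).hom.comp
        ((X.presheaf.map (homOfLE (le_top : U ≤ ⊤)).op).hom.comp (Coh.toGlobal f)) := by
    have e : (Scheme.ΓSpecIso (CommRingCat.of A)).inv ≫ f.appTop ≫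
        X.presheaf.map (homOfLE (le_top : U ≤ ⊤)).op ≫ (Curv2.bcCplFst A f).app U =
        CommRingCat.ofHom (algebraMap A (Curv2.cpl A)) ≫ (Scheme.ΓSpecIso (CommRingCat.of (Curv2.cpl A))).inv ≫
          (Curv2.bcCplSnd A f).appLE ⊤ ((Curv2.bcCplFst A f) ⁻¹ᵁ U) le_top := by
      rw [reassoc_of% Scheme.ΓSpecIso_inv_naturality (CommRingCat.ofHom (algebraMap A (Curv2.cpl A)))]
      congr 1
      rw [Scheme.Hom.naturality, ← Scheme.Hom.comp_appTop_assoc, Scheme.Hom.appLE]
      simp only [pullback.condition]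
      rw [Scheme.Hom.comp_appTop, Category.assoc]
      rfl
    exact (congrArg CommRingCat.Hom.hom e).symm
  rw [Ideal.map_map, ← hcomp, Ideal.mem_comap, ← Ideal.map_map, ← Ideal.map_map]
  exact Ideal.mem_map_of_mem _ (Ideal.mem_map_of_mem _ h2)

/-- Over the closed point, the maximal ideal upstairs is generated by the maximal ideal downstairs. -/
theorem map_maximalIdeal_stalk (y : Curv2.bcCpl A f)
    (hy : f.base ((Curv2.bcCplFst A f).base y) = closedPoint A) :
    (maximalIdeal (X.presheaf.stalk ((Curv2.bcCplFst A f).base y))).map ((Curv2.bcCplFst A f).stalkMap y).hom =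
      maximalIdeal ((Curv2.bcCpl A f).presheaf.stalk y) := by
  set φ := Curv2.bcCplFst A f with hφ
  refine le_antisymm (map_maximalIdeal_le _) ?_
  obtain ⟨U, hU, hxU, -⟩ := exists_isAffineOpen_mem_and_subset (X := X) (x := φ.base y) (U := ⊤) trivial
  have hV : IsAffineOpen (φ ⁻¹ᵁ U) := hU.preimage φ
  letI := TopCat.Presheaf.algebra_section_stalk (Curv2.bcCpl A f).presheaf (⟨y, hxU⟩ : φ ⁻¹ᵁ U)
  haveI := hV.isLocalization_stalk ⟨y, hxU⟩
  rw [← IsLocalization.AtPrime.map_eq_maximalIdeal (hV.primeIdealOf ⟨y, hxU⟩).asIdeal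
    ((Curv2.bcCpl A f).presheaf.stalk y), Ideal.map_le_iff_le_comap]
  intro c hc
  have hcm : (Curv2.bcCpl A f).presheaf.germ (φ ⁻¹ᵁ U) y hxU c ∈
      maximalIdeal ((Curv2.bcCpl A f).presheaf.stalk y) := by
    rw [← IsLocalization.AtPrime.map_eq_maximalIdeal (hV.primeIdealOf ⟨y, hxU⟩).asIdeal
      ((Curv2.bcCpl A f).presheaf.stalk y)]
    exact Ideal.mem_map_of_mem _ hc
  obtain ⟨b, hb⟩ := exists_sub_mem f U hU c
  let gA := (X.presheaf.map (homOfLE (le_top : U ≤ ⊤)).op).hom.comp (Coh.toGlobal f)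
  let γ := (X.presheaf.germ U (φ.base y) hxU).hom
  have hgerm : ((Curv2.bcCpl A f).presheaf.germ (φ ⁻¹ᵁ U) y hxU).hom.comp (φ.app U).hom =
      (φ.stalkMap y).hom.comp γ := by
    ext z
    exact (Scheme.Hom.germ_stalkMap_apply φ U y hxU z).symm
  have hm : ((maximalIdeal A).map gA).map γ ≤ maximalIdeal (X.presheaf.stalk (φ.base y)) := by
    rw [Ideal.map_map, Ideal.map_le_iff_le_comap]
    intro a ha
    rw [Ideal.mem_comap, mem_maximalIdeal, mem_nonunits_iff]
    intro hu
    have h1 : φ.base y ∈ X.basicOpen (Coh.toGlobal f a : Γ(X, ⊤)) := by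
      refine (X.mem_basicOpen (U := ⊤) (Coh.toGlobal f a : Γ(X, ⊤)) (φ.base y) trivial).mpr ?_
      have e := TopCat.Presheaf.germ_res_apply X.presheaf (homOfLE (le_top : U ≤ ⊤)) (φ.base y) hxU
        (Coh.toGlobal f a : Γ(X, ⊤))
      exact e ▸ hu
    have h2 : φ.base y ∈ f ⁻¹ᵁ (Spec (CommRingCat.of A)).basicOpen ((Scheme.ΓSpecIso (CommRingCat.of A)).inv a) := by
      rw [Scheme.preimage_basicOpen]
      exact h1
    rw [basicOpen_eq_of_affine] at h2
    exact (show a ∉ (f.base (φ.base y)).asIdeal from h2) (by rw [hy]; exact ha)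
  have hrel := Ideal.mem_map_of_mem ((Curv2.bcCpl A f).presheaf.germ (φ ⁻¹ᵁ U) y hxU).hom hb
  rw [map_sub, Ideal.map_map, hgerm, ← Ideal.map_map] at hrel
  replace hrel := (Ideal.map_mono hm) hrel
  rw [Ideal.mem_comap]
  have hbu : ¬ IsUnit (γ b) := fun hu => by
    have h3 : φ.stalkMap y (γ b) ∈ maximalIdeal ((Curv2.bcCpl A f).presheaf.stalk y) := by
      have h4 := sub_mem hcm (map_maximalIdeal_le _ hrel)
      rw [sub_sub_cancel] at h4
      exact (Scheme.Hom.germ_stalkMap_apply φ U y hxU b).symm ▸ h4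
    exact h3 (hu.map _)
  have h5 := add_mem hrel (Ideal.mem_map_of_mem (φ.stalkMap y).hom
    (show γ b ∈ maximalIdeal (X.presheaf.stalk (φ.base y)) from hbu))
  have h6 : (φ.stalkMap y).hom (γ b) = (Curv2.bcCpl A f).presheaf.germ (φ ⁻¹ᵁ U) y hxU (φ.app U b) :=
    Scheme.Hom.germ_stalkMap_apply φ U y hxU b
  rw [h6, sub_add_cancel] at h5
  exact h5

theorem isLocallyNoetherian_bcCpl [LocallyOfFiniteType f] : IsLocallyNoetherian (Curv2.bcCpl A f) :=
  LocallyOfFiniteType.isLocallyNoetherian (Curv2.bcCplSnd A f)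

theorem isRegularLocalRing_iff [LocallyOfFiniteType f] (y : Curv2.bcCpl A f)
    (hy : (Curv2.bcCplSnd A f).base y = closedPoint (Curv2.cpl A)) :
    IsRegularLocalRing ((Curv2.bcCpl A f).presheaf.stalk y) ↔
      IsRegularLocalRing (X.presheaf.stalk ((Curv2.bcCplFst A f).base y)) := by
  have hy' : f.base ((Curv2.bcCplFst A f).base y) = closedPoint A := by
    rw [← Scheme.Hom.comp_apply, pullback.condition, Scheme.Hom.comp_apply, hy]
    haveI : IsLocalHom (CommRingCat.ofHom (algebraMap A (Curv2.cpl A))).hom :=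
      inferInstanceAs (IsLocalHom (algebraMap A (Curv2.cpl A)))
    exact IsLocalRing.comap_closedPoint (CommRingCat.ofHom (algebraMap A (Curv2.cpl A))).hom
  refine ⟨GeomProp.regular_stalk_descent _ y (Flat.stalkMap _ y), fun h => ?_⟩
  haveI := isLocallyNoetherian_bcCpl f
  let R : Type u := X.presheaf.stalk ((Curv2.bcCplFst A f).base y)
  let S : Type u := (Curv2.bcCpl A f).presheaf.stalk y
  letI : Algebra R S := ((Curv2.bcCplFst A f).stalkMap y).hom.toAlgebra
  haveI : IsLocalHom (algebraMap R S) := inferInstanceAs (IsLocalHom ((Curv2.bcCplFst A f).stalkMap y).hom)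
  haveI : Module.Flat R S := Flat.stalkMap _ y
  haveI : IsRegularLocalRing R := h
  refine IsRegularLocalRing.of_spanFinrank_maximalIdeal_le (R := S) ?_
  rw [show maximalIdeal S = (maximalIdeal R).map (algebraMap R S) from (map_maximalIdeal_stalk f y hy').symm]
  calc ((((maximalIdeal R).map (algebraMap R S)).spanFinrank : ℕ) : WithBot ℕ∞)
      ≤ ((maximalIdeal R).spanFinrank : ℕ) :=
        by exact_mod_cast Ideal.spanFinrank_map_le_of_fg _ (IsNoetherian.noetherian _)
    _ = ringKrullDim R := IsRegularLocalRing.spanFinrank_maximalIdeal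
    _ ≤ ringKrullDim S := SmLocalST.ringKrullDim_le_of_flat_local R S

end Groth.Agent.CplBC
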